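import Cfsg.Agent.Lib.CosetEnum.Y5Spider.DefsPart0
import Cfsg.Agent.Lib.CosetEnum.Y5Spider.StepsPart0
import Cfsg.Agent.Lib.CosetEnum.Y5Spider.ClosedPart0
import Cfsg.Agent.Lib.CosetEnum.Y5Spider.PermPart0

/-! Generated certificate. -/

set_option autoImplicit false
set_option maxRecDepth 20000

namespace Cfsg.Lib.CosetEnum.Y5Spider

theorem cert_valid : cert.Valid where
  valid :=
    { pos := by decide +kernel
      shifts := by decide +kernel
      defs := defs_0
      steps := (stepsOK_append (m := 1500) (n := 577) steps_0 steps_1)
      closed := closed_0 }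
  pos := by decide +kernel
  halves := by decide +kernel
  perm := perm_0
  tree := by decide +kernel
  fix := by decide +kernel

end Cfsg.Lib.CosetEnum.Y5Spider
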