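import Cfsg.Agent.Lib.CosetEnum.Defs

/-! Generated table data. -/

set_option autoImplicit false
set_option maxRecDepth 20000

namespace Cfsg.Lib.CosetEnum.Y5Spider

/-- Table data. -/
def tabC_1_0 : Tab :=
  (.node 14 (.node 7 (.node 3 (.node 1 (.leaf 0x1003fe000d3d0002700000100020800013) (.node 1 (.leaf 0x1003c4c00ffa00021400e670001b80000100016800007) (.leaf 0x1003ff400083000208000010001ac0000e))) (.node 2 (.node 1 (.leaf 0x10001bc00ffe0033980000200016c00012) (.leaf 0x1003ffc00d39000210000010001b000013)) (.node 1 (.leaf 0x100038c00d2500359400ff0000348000030002f800009) (.leaf 0x10003ac010010003a8000020003740000e)))) (.node 3 (.node 1 (.leaf 0x100400800f29004008000010003900000f) (.node 1 (.leaf 0x10003c4010010034240000100039000012) (.leaf 0x100401000e9e004010000000003b40000e))) (.node 2 (.node 1 (.leaf 0x100332400cc90003b0010050003b00000400037800007) (.leaf 0x10003a400d2700401800d270003a40000100037000009)) (.node 1 (.leaf 0x10003c0010070003c0000010003a80000e) (.leaf 0x1003278000e8004018000e80032780000100036c0000b))))) (.node 7 (.node 3 (.node 1 (.leaf 0x1003fc8000c40033d0000c60002c00000200025c0000d)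 (.node 1 (.leaf 0x1004028000d800035c000010003100000e) (.leaf 0x100402800fdc003288000010002c80000f))) (.node 2 (.node 1 (.leaf 0x1003e6c00fa80040280000200031c00011) (.leaf 0x1004034000e20003840000100033c0000e)) (.node 1 (.leaf 0x100403400fe100328c000010003080000f) (.leaf 0x100380400e080040340000200035800010)))) (.node 4 (.node 2 (.node 1 (.leaf 0x1004040000ee0003b40000100037c0000e) (.leaf 0x100404000ff6003290000010003540000f)) (.node 1 (.leaf 0x1003fd4010120003bc000010003980000a) (.leaf 0x100031c0100b000318000020002c400012))) (.node 2 (.node 1 (.leaf 0x10003580100e0003540000200030400012) (.leaf 0x1000394010110003900000200035000012)) (.node 1 (.leaf 0x1003598010160003bc0000100039800008) (.leaf 0x1000398000e7004024000e7000398000010003680001b))))))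

/-- Table data. -/
def tabC_1 : Tab :=
  tabC_1_0

end Cfsg.Lib.CosetEnum.Y5Spider
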